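import Cfsg.Agent.H91.Root7
import Cfsg.Agent.H66.SL2Sylow2

/-! Project LN (notes/LN.md, section MQ): the two by two data. -/

set_option autoImplicit false

namespace Cfsg.Agent.LN

open Subgroup Matrix
open scoped MatrixGroups
open Cfsg.Agent.H91.Rt (mx sl)

variable {F : Type*} [Field F] [Fintype F]

theorem MQ_h2 (hF : Odd (Fintype.card F)) : (2 : F) ≠ 0 := fun h => by
  have h1 : ringChar F = 2 := ringChar.eq_iff.2 ((CharP.charP_iff_prime_eq_zero Nat.prime_two).2 h)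
  have := FiniteField.even_card_of_char_two h1
  rw [Nat.odd_iff] at hF
  omega

theorem MQ_conj (h2 : (2 : F) ≠ 0) {a y : SL(2, F)} (ha : a * a = -1) (hy : y * y = -1) :
    ∃ g : SL(2, F), g * a * g⁻¹ = y := by
  have k : ∀ u : SL(2, F), u * u = -1 → H66.tr2 u = 0 := fun u hu => by
    have e : u⁻¹ = -u := inv_eq_of_mul_eq_one_right (by rw [mul_neg, hu, neg_neg])
    have := H66.tr2_inv u
    rw [e, H66.tr2_neg] at this
    apply mul_left_cancel₀ h2
    linear_combination -this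
  refine isConj_iff.1 (H66.isConj_of_tr2_eq ?_ (by rw [k a ha, k y hy]))
  rw [k a ha]
  intro h
  exact mul_ne_zero h2 h2 (by linear_combination -h)

theorem MQ_val (hF : Odd (Fintype.card F)) : (Nat.card SL(2, F)).factorization 2 =
    padicValNat 2 (Fintype.card F - 1) + padicValNat 2 (Fintype.card F + 1) := by
  have h1 := Fintype.one_lt_card (α := F)
  have e : Fintype.card F ^ 2 - 1 = (Fintype.card F - 1) * (Fintype.card F + 1) := by
    rw [mul_comm, ← Nat.sq_sub_sq, one_pow]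
  rw [H9.card_sl_two, Nat.factorization_def _ Nat.prime_two, e,
    padicValNat.mul (by omega) (mul_ne_zero (by omega) (by omega)),
    padicValNat.mul (by omega) (by omega),
    padicValNat.eq_zero_of_not_dvd (by rw [Nat.odd_iff] at hF; omega), zero_add]

theorem MQ_syl (hF : Odd (Fintype.card F)) : ∃ S : Sylow 2 SL(2, F),
    ∀ s t : F, s * s = 1 → t * t = 1 → ∀ y ∈ (S : Subgroup SL(2, F)), ∃ y' ∈ (S : Subgroup SL(2, F)),
      mx y' = diagonal ![s, t] * mx y * diagonal ![s, t] := by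
  have hd : (diagonal ![1, -1] : Matrix (Fin 2) (Fin 2) F) * diagonal ![1, -1] = 1 := by
    ext i j; fin_cases i <;> fin_cases j <;> simp
  let δ : GL (Fin 2) F := ⟨diagonal ![1, -1], diagonal ![1, -1], hd, hd⟩
  have hδ : δ ^ 2 = 1 := by rw [sq]; exact Units.ext hd
  have hp : IsPGroup 2 (zpowers δ) := by
    rintro ⟨_, k, rfl⟩
    refine ⟨1, Subtype.ext ?_⟩
    show (δ ^ k) ^ 2 ^ 1 = 1
    rw [pow_one, ← zpow_natCast, ← _root_.zpow_mul, mul_comm, _root_.zpow_mul, zpow_natCast, hδ,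
      _root_.one_zpow]
  obtain ⟨D, hD⟩ := hp.exists_le_sylow
  obtain ⟨S, hS⟩ := (H91.Rt.sylIn_comap_toGL (H91.sylIn_top D)).exists_sylow_top
  refine ⟨S, fun s t hs ht y hy => ?_⟩
  have k : ∃ y' ∈ (S : Subgroup SL(2, F)), mx y' = diagonal ![1, -1] * mx y * diagonal ![1, -1] := by
    refine ⟨sl (diagonal ![1, -1] * mx y * diagonal ![1, -1]) (by
      rw [det_mul, det_mul, H91.Rt.det_mx, mul_one, ← det_mul, hd, det_one]), ?_, rfl⟩
    rw [hS] at hy ⊢
    have h1 := D.mul_mem (D.mul_mem (hD (mem_zpowers δ)) hy) (hD (mem_zpowers δ))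
    rw [mem_comap]
    convert h1 using 1
    exact Units.ext rfl
  rcases mul_self_eq_one_iff.1 hs with rfl | rfl <;> rcases mul_self_eq_one_iff.1 ht with rfl | rfl
  · refine ⟨y, hy, ?_⟩
    have e : (diagonal ![1, 1] : Matrix (Fin 2) (Fin 2) F) = 1 := by
      ext i j; fin_cases i <;> fin_cases j <;> simp
    rw [e, one_mul, mul_one]
  · exact k
  · have e : (diagonal ![-1, 1] : Matrix (Fin 2) (Fin 2) F) = -diagonal ![1, -1] := by
      ext i j; fin_cases i <;> fin_cases j <;> simp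
    rw [e, neg_mul, mul_neg, neg_mul, neg_neg]
    exact k
  · refine ⟨y, hy, ?_⟩
    have e : (diagonal ![-1, -1] : Matrix (Fin 2) (Fin 2) F) = -1 := by
      ext i j; fin_cases i <;> fin_cases j <;> simp
    rw [e, neg_mul, mul_neg, neg_mul, neg_neg, one_mul, mul_one]

theorem MQ_two (hF : Odd (Fintype.card F)) : ∃ (Q : Subgroup SL(2, F)) (a b ω : SL(2, F)),
    IsPGroup 2 Q ∧
    Nat.card Q = 2 ^ (padicValNat 2 (Fintype.card F - 1) + padicValNat 2 (Fintype.card F + 1)) ∧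
    Q ≤ closure {y | y ∈ Q ∧ y * y = -1} ∧
    (∀ s t : F, s * s = 1 → t * t = 1 → ∀ y ∈ Q, ∃ y' ∈ Q,
      mx y' = diagonal ![s, t] * mx y * diagonal ![s, t]) ∧
    a ∈ Q ∧ b ∈ Q ∧ a * a = -1 ∧ b * b = -1 ∧ b * a = -(a * b) ∧ ω * a * ω⁻¹ = b ∧
    ω * b * ω⁻¹ = a * b := by
  have h2 := MQ_h2 hF
  obtain ⟨S, hS⟩ := MQ_syl hF
  obtain ⟨k, x, y, hk, -, ox, mx', my, e, all⟩ := H66.exists_sylow_two_gens hF S
  have hx : ∀ j, 0 < j → j < 2 ^ (k + 1) → x ^ j ≠ 1 := fun j h0 h1 h => by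
    have := Nat.le_of_dvd h0 (orderOf_dvd_of_pow_eq_one h)
    omega
  have e1 : ∀ i : ℕ, y * x ^ i * y⁻¹ = (x ^ i)⁻¹ := fun i => by rw [← conj_pow, e, inv_pow]
  have e2 : x * y = y * x⁻¹ := by
    have : y * x⁻¹ * y⁻¹ = x := by
      calc y * x⁻¹ * y⁻¹ = (y * x * y⁻¹)⁻¹ := by group
        _ = x := by rw [e, inv_inv]
    exact (mul_inv_eq_iff_eq_mul.1 this).symm
  have hy : y * y = -1 := by
    rcases H66.eq_of_commute_of_commute h2 (H66.tr2_sq_ne_of_orderOf_two_pow h2 hk ox) e (h := y * y)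
      (by rw [← mul_assoc, e2, mul_assoc y y x, mul_inv_eq_iff_eq_mul.1 e, mul_assoc])
      (by rw [mul_assoc]) with h | h
    · exfalso
      have h4 : 2 ^ (1 + 1) ≤ 2 ^ (k + 1) := Nat.pow_le_pow_right two_pos (by omega)
      refine hx 2 two_pos (by omega) ?_
      rcases H91.Rt.eq_or_neg_of_sq h2 h with rfl | rfl
      · rw [sq]; nth_rewrite 1 [← inv_inv x, ← e]; simp
      · rw [sq]; nth_rewrite 1 [← inv_inv x, ← e]; simp
    · exact h
  have hyx : ∀ i : ℕ, y * x ^ i * (y * x ^ i) = -1 := fun i => by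
    have h3 : y * y * x ^ i = x ^ i * (y * y) := by rw [hy]; simp
    calc y * x ^ i * (y * x ^ i) = y * x ^ i * y⁻¹ * (y * y * x ^ i) := by group
      _ = -1 := by rw [e1, h3, hy, inv_mul_cancel_left]
  obtain ⟨j, rfl⟩ : ∃ j, k = j + 1 := ⟨k - 1, by omega⟩
  have hb : x ^ 2 ^ j * x ^ 2 ^ j = -1 := by
    rw [← pow_add, ← two_mul, ← pow_succ']
    refine (H91.Rt.eq_or_neg_of_sq h2 ?_).resolve_left
      (hx _ (by positivity) (Nat.pow_lt_pow_right one_lt_two (by omega)))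
    rw [← pow_add, ← two_mul, ← pow_succ', ← ox, pow_orderOf_eq_one]
  have hba : x ^ 2 ^ j * y = -(y * x ^ 2 ^ j) := by
    have h3 : (x ^ 2 ^ j)⁻¹ = -x ^ 2 ^ j := inv_eq_of_mul_eq_one_right (by rw [mul_neg, hb, neg_neg])
    rw [mul_inv_eq_iff_eq_mul.1 (e1 _), h3, neg_mul, neg_neg]
  obtain ⟨w, w1, w2, -⟩ := H66.exists_omega h2 hy hb hba
  refine ⟨S, y, x ^ 2 ^ j, w, S.2, ?_, fun s hs => ?_, hS, my, pow_mem mx' _, hy, hb, hba,
    mul_inv_eq_iff_eq_mul.2 w1, mul_inv_eq_iff_eq_mul.2 w2⟩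
  · rw [S.card_eq_multiplicity, MQ_val hF]
  · have m1 : ∀ i : ℕ, y * x ^ i ∈ closure {u | u ∈ (S : Subgroup SL(2, F)) ∧ u * u = -1} := fun i =>
      subset_closure ⟨mul_mem my (pow_mem mx' _), hyx i⟩
    obtain ⟨i, rfl | rfl⟩ := all s hs
    · have := mul_mem (inv_mem (m1 0)) (m1 i)
      rwa [pow_zero, mul_one, inv_mul_cancel_left] at this
    · exact m1 i

end Cfsg.Agent.LN
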