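import Cfsg.Agent.LU.Sig

/-! Signalizer functors on a frame of five involutions (no fusion hypothesis). -/

set_option autoImplicit false

namespace Cfsg.Agent.LN.S5

open Subgroup
open Cfsg.Agent.H42 (SylIn cj)
open Cfsg.Agent.PSP4 (θ)
open Cfsg.Agent.LU (sg_mA sg_le SgF sg_norm sgW sgY sg_nW sg_nY tri)

variable {G : Type*} [Group G] {f : Fin 5 → G} {x : G}

theorem prod_comp (hc : ∀ i j, f i * f j = f j * f i) (σ : Equiv.Perm (Fin 5)) :
    f (σ 0) * f (σ 1) * f (σ 2) * f (σ 3) * f (σ 4) = f 0 * f 1 * f 2 * f 3 * f 4 := by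
  have := (Equiv.Perm.ofFn_comp_perm σ f).prod_eq' (List.pairwise_ofFn.2 fun i j _ => hc _ _)
  simpa [List.ofFn_succ, mul_assoc] using this

/-- Five commuting involutions with product one. -/
structure Fr (f : Fin 5 → G) : Prop where
  sq : ∀ i, f i * f i = 1
  comm : ∀ i j, f i * f j = f j * f i
  prod : f 0 * f 1 * f 2 * f 3 * f 4 = 1
  inj : Function.Injective f
  ne_one : ∀ i, f i ≠ 1

/-- Balance. -/
structure Bal (f : Fin 5 → G) : Prop where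
  b1 : ∀ i j, i ≠ j → ∀ k l, k ≠ l → ∀ x ∈ θ (f i * f j), x * (f k * f l) = f k * f l * x →
    ∀ m, x * f m * x⁻¹ * f m ∈ θ (f k * f l)
  b2 : ∀ i j k, i ≠ j → i ≠ k → j ≠ k → ∀ l m, l ≠ m → ∀ x ∈ θ (f i * f j), x ∈ θ (f j * f k) →
    x ∈ θ (f i * f k) → x * (f l * f m) = f l * f m * x → x ∈ θ (f l * f m)

namespace Fr

variable (h : Fr f)
include h

theorem comp (σ : Equiv.Perm (Fin 5)) : Fr (f ∘ σ) :=
  ⟨fun _ => h.sq _, fun _ _ => h.comm _ _, (prod_comp h.comm σ).trans h.prod, h.inj.comp σ.injective,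
    fun _ => h.ne_one _⟩

theorem ne {i j : Fin 5} (e : i ≠ j) : f i ≠ f j := h.inj.ne e

theorem inv_eq (i : Fin 5) : (f i)⁻¹ = f i := inv_eq_of_mul_eq_one_right (h.sq i)

theorem cancel (i : Fin 5) (x : G) : f i * (f i * x) = x := by rw [← mul_assoc, h.sq, one_mul]

theorem left_comm (i j : Fin 5) (x : G) : f i * (f j * x) = f j * (f i * x) := by
  rw [← mul_assoc, h.comm, mul_assoc]

theorem comm2 (i j k : Fin 5) : f i * f j * f k = f k * (f i * f j) := PS.cmul (h.comm i k) (h.comm j k)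

theorem comm22 (i j k l : Fin 5) : f i * f j * (f k * f l) = f k * f l * (f i * f j) :=
  PS.cmul (h.comm2 k l i).symm (h.comm2 k l j).symm

theorem mul_sq (i j : Fin 5) : f i * f j * (f i * f j) = 1 := by
  rw [mul_assoc, h.left_comm j i, h.cancel, h.sq]

theorem mul_ne_one {i j : Fin 5} (e : i ≠ j) : f i * f j ≠ 1 := fun k =>
  h.ne e (by rw [← h.inv_eq j]; exact eq_inv_of_mul_eq_one_left k)

theorem mul_mul (i j k : Fin 5) : f i * f j * (f j * f k) = f i * f k := by rw [mul_assoc, h.cancel]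

/-- the product of four members is the fifth -/
theorem four : f 0 * f 1 * (f 2 * f 3) = f 4 := by
  rw [← h.inv_eq 4, ← mul_assoc]; exact eq_inv_of_mul_eq_one_left h.prod

theorem four' (σ : Equiv.Perm (Fin 5)) : f (σ 0) * f (σ 1) * (f (σ 2) * f (σ 3)) = f (σ 4) := (h.comp σ).four

theorem three : f 2 * f 3 * f 4 = f 0 * f 1 := by
  rw [← h.four, h.comm22 0 1 2 3, ← mul_assoc, h.mul_sq, one_mul]

theorem mul_ne {i j k : Fin 5} (e : i ≠ k) : f i * f j ≠ f j * f k := fun e' =>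
  h.ne e (by rwa [h.comm i j, mul_right_inj] at e')

theorem n3 (i : Fin 5) {j k : Fin 5} (e : j ≠ k) : f j * f k ≠ f i := fun c => by
  by_cases e1 : i = j
  · exact h.ne_one k (by rw [e1] at c; simpa using c)
  by_cases e2 : i = k
  · exact h.ne_one j (by rw [e2] at c; simpa using c)
  obtain ⟨σ, rfl, rfl, rfl⟩ := PS.exists_perm3 j k i e (Ne.symm e1) (Ne.symm e2)
  have := h.four' σ
  rw [c, h.cancel] at this
  exact h.ne (σ.injective.ne (by decide)) this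

/-- the elements of the group generated by a frame -/
theorem mem_cases (hx : x ∈ closure (Set.range f)) : x = 1 ∨ (∃ i, x = f i) ∨ ∃ i j, i ≠ j ∧ x = f i * f j := by
  induction hx using closure_induction_left with
  | one => exact Or.inl rfl
  | inv_mul_cancel y hy x _ ih | mul_left y hy x _ ih =>
    obtain ⟨m, rfl⟩ := hy
    try rw [h.inv_eq]
    rcases ih with rfl | ⟨i, rfl⟩ | ⟨i, j, e, rfl⟩
    · exact Or.inr (Or.inl ⟨m, mul_one _⟩)
    · by_cases e : m = i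
      · exact Or.inl (by rw [e, h.sq])
      · exact Or.inr (Or.inr ⟨m, i, e, rfl⟩)
    · by_cases e1 : m = i
      · exact Or.inr (Or.inl ⟨j, by rw [e1, h.cancel]⟩)
      by_cases e2 : m = j
      · exact Or.inr (Or.inl ⟨i, by rw [e2, h.comm i j, h.cancel]⟩)
      obtain ⟨σ, rfl, rfl, rfl⟩ := PS.exists_perm3 m i j e1 e2 e
      refine Or.inr (Or.inr ⟨σ 3, σ 4, σ.injective.ne (by decide), ?_⟩)
      rw [h.comm (σ 3), ← h.four' σ, ← mul_assoc (f (σ 0) * f (σ 1)), mul_assoc _ (f (σ 3)), h.sq, mul_one, mul_assoc]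

end Fr

variable [Finite G]

open PS (mem_C cmul cinv cconj)
open PS.Loc
open PSP4 (odd_θ θ_comm conj_θ conj_θ')

theorem Fr.sg_dec (c : Fr f) {P Y : Subgroup G} (ho : Odd (Nat.card P)) (hn : ∀ m, f m ∈ normalizer (P : Set G))
    (h1 : ∀ y ∈ P, ∀ m, y * f m * y⁻¹ * f m ∈ Y) (h0 : ∀ y ∈ P, (∀ m, y * f m = f m * y) → y ∈ Y) : P ≤ Y :=
  LU.sg_dec (List.ofFn f) (by simp only [List.forall_mem_ofFn_iff]; exact c.sq)
    (by simp only [List.forall_mem_ofFn_iff]; exact c.comm) ho (by simp only [List.forall_mem_ofFn_iff]; exact hn)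
    (by simp only [List.forall_mem_ofFn_iff]; exact h1) (by simp only [List.forall_mem_ofFn_iff]; exact h0)

omit [Finite G] in
theorem Fr.sg_cA (c : Fr f) {x y : G} (hx : x ∈ closure (Set.range f)) (hy : y ∈ closure (Set.range f)) :
    x * y = y * x := by
  have k : ∀ {x : G}, (∀ i, f i * x = x * f i) → closure (Set.range f) ≤ centralizer {x} := fun e =>
    (closure_le _).2 (by rintro _ ⟨i, rfl⟩; exact mem_C.2 (e i))
  exact mem_C.1 (k (fun i => (mem_C.1 (k (fun j => c.comm j i) hy)).symm) hx)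

omit [Finite G] in
theorem Fr.sg_sq (c : Fr f) {x : G} (hx : x ∈ closure (Set.range f)) : x * x = 1 := by
  rcases c.mem_cases hx with rfl | ⟨i, rfl⟩ | ⟨i, j, -, rfl⟩
  exacts [one_mul 1, c.sq i, c.mul_sq i j]

omit [Finite G] in
theorem Fr.sg_o2 (c : Fr f) (i : Fin 5) : orderOf (f i) = 2 := H8.orderOf_two_of (c.sq i) (c.ne_one i)

omit [Finite G] in
theorem Fr.sg_34 (c : Fr f) : f 3 * f 4 = f 0 * f 1 * f 2 := by
  rw [← c.three, mul_assoc (f 2), ← c.comm2, mul_assoc _ (f 2), c.sq, mul_one]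

theorem Fr.sg_card (c : Fr f) : Nat.card ↥(JR.four (f 0) (f 1) ⊔ zpowers (f 2)) = 8 :=
  JR.X.card_eight (c.sg_o2 0) (c.sg_o2 1) (c.ne (by decide)) (c.comm 0 1) (c.sg_o2 2) (mem_C.2 (c.comm 2 0))
    (mem_C.2 (c.comm 2 1)) fun e => by
      rcases (JR.mem_four (c.sg_o2 0) (c.sg_o2 1) (c.comm 0 1)).1 e with e | e | e | e
      exacts [c.ne_one 2 e, c.ne (by decide) e, c.ne (by decide) e, c.n3 2 (j := 0) (k := 1) (by decide) e.symm]

variable {T : G → Prop} {φ : G → Subgroup G}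

theorem four5 (h : SgF f T φ) (c : Fr f) : Odd (Nat.card ↥(⨆ t : {t // T t}, φ t ⊓ centralizer {f 4})) ∧
    ∀ t, T t → ∀ x ∈ ⨆ t : {t // T t}, φ t ⊓ centralizer {f 4}, x * t = t * x → x ∈ φ t := by
  have hB : ∀ b ∈ JR.four (f 0) (f 1) ⊔ zpowers (f 2), b ≠ 1 → ∃ t, T t ∧ (t = b ∨ t = b * f 4) := fun b hb b1 => by
    have k : ∀ i j, i ≠ j → T (f i * f j) := fun i j e => (h.hT _).2 ⟨i, j, e, rfl⟩
    obtain ⟨u, hu, w, hw, rfl⟩ := (H49.mem_sup_of_norm_right (H49.norm_of_cent (by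
      rw [H49.cent_zpowers]; exact JR.four_le (mem_C.2 (c.comm 0 2)) (mem_C.2 (c.comm 1 2))))).1 hb
    rcases (JR.mem_zpowers_two (c.sg_o2 2)).1 hw with rfl | rfl <;>
      rcases (JR.mem_four (c.sg_o2 0) (c.sg_o2 1) (c.comm 0 1)).1 hu with rfl | rfl | rfl | rfl
    · exact absurd (one_mul 1) b1
    · exact ⟨_, k 0 4 (by decide), .inr (by rw [mul_one])⟩
    · exact ⟨_, k 1 4 (by decide), .inr (by rw [mul_one])⟩
    · exact ⟨_, k 0 1 (by decide), .inl (by rw [mul_one])⟩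
    · exact ⟨_, k 2 4 (by decide), .inr (by rw [one_mul])⟩
    · exact ⟨_, k 0 2 (by decide), .inl rfl⟩
    · exact ⟨_, k 1 2 (by decide), .inl rfl⟩
    · exact ⟨_, k 3 4 (by decide), .inl c.sg_34⟩
  have hA : ∀ t, T t → ∃ b ∈ JR.four (f 0) (f 1) ⊔ zpowers (f 2), b ≠ 1 ∧ (t = b ∨ t = b * f 4) := fun t ht => by
    obtain ⟨i, j, e, rfl⟩ := (h.hT t).1 ht
    have m0 : f 0 ∈ JR.four (f 0) (f 1) ⊔ zpowers (f 2) := mem_sup_left (JR.left_mem_four _ _)
    have m1 : f 1 ∈ JR.four (f 0) (f 1) ⊔ zpowers (f 2) := mem_sup_left (JR.right_mem_four _ _)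
    have m2 : f 2 ∈ JR.four (f 0) (f 1) ⊔ zpowers (f 2) := mem_sup_right (mem_zpowers _)
    have k : ∀ i, ∃ b ∈ JR.four (f 0) (f 1) ⊔ zpowers (f 2), f i = b ∨ f i = b * f 4 := fun i => by
      fin_cases i
      exacts [⟨_, m0, .inl rfl⟩, ⟨_, m1, .inl rfl⟩, ⟨_, m2, .inl rfl⟩,
        ⟨_, mul_mem (mul_mem m0 m1) m2, .inr (by rw [← c.sg_34, mul_assoc, c.sq, mul_one]; rfl)⟩,
        ⟨1, one_mem _, .inr (one_mul _).symm⟩]
    obtain ⟨a, ha, ea⟩ := k i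
    obtain ⟨b, hb, eb⟩ := k j
    have e4 := c.sg_cA (sg_mA 4) (sg_le hb)
    have : f i * f j = a * b ∨ f i * f j = a * b * f 4 := by
      rcases ea with ea | ea <;> rcases eb with eb | eb <;> rw [ea, eb]
      exacts [.inl rfl, .inr (mul_assoc ..).symm, .inr (by rw [mul_assoc, e4, mul_assoc]),
        .inl (by rw [← e4, mul_assoc, c.cancel])]
    refine ⟨_, mul_mem ha hb, fun k => ?_, this⟩
    rw [k, one_mul] at this
    exact this.elim (c.mul_ne_one e) (c.n3 4 e)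
  obtain ⟨χ, hχ⟩ : ∃ χ : G → Subgroup G, ∀ b x, x ∈ χ b ↔ x * f 4 = f 4 * x ∧ x * b = b * x ∧
      ∀ t, T t → (t = b ∨ t = b * f 4) → x ∈ φ t :=
    ⟨fun b => centralizer {f 4} ⊓ (centralizer {b} ⊓ ⨅ t, ⨅ (_ : T t), ⨅ (_ : t = b ∨ t = b * f 4), φ t),
      fun b x => by simp only [mem_inf, mem_iInf, mem_C]⟩
  have ho : ∀ b ∈ JR.four (f 0) (f 1) ⊔ zpowers (f 2), b ≠ 1 → Odd (Nat.card (χ b)) := fun b hb b1 => by
    obtain ⟨t, ht, e⟩ := hB b hb b1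
    exact JR.X.odd_of_le (h.odd t ht) fun x hx => ((hχ b x).1 hx).2.2 t ht e
  obtain ⟨k1, k2⟩ := S0217.result (p := 2) (JR.four (f 0) (f 1) ⊔ zpowers (f 2))
    (fun x hx y hy => c.sg_cA (sg_le hx) (sg_le hy)) (fun x hx => (pow_two x).trans (c.sg_sq (sg_le hx)))
    c.sg_card.ge χ (fun b _ _ x hx => mem_C.2 ((hχ b x).1 hx).2.1) (fun b hb b1 => not_dvd.2 (ho b hb b1))
    (fun b hb _ a ha x hx => by
      obtain ⟨h1, h2, h3⟩ := (hχ b x).1 hx
      exact (hχ b _).2 ⟨cconj (c.sg_cA (sg_le ha) (sg_mA 4)) h1, cconj (c.sg_cA (sg_le ha) (sg_le hb)) h2,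
        fun t ht e => h.inv t ht a (sg_le ha) x (h3 t ht e)⟩)
    (fun b hb b1 => S0205.result (ho b hb b1)) fun b hb b1 a _ _ x hx => by
      obtain ⟨h1, -, h3⟩ := (hχ b x).1 hx.1
      obtain ⟨t, ht, e⟩ := hB b hb b1
      exact (hχ a _).2 ⟨h1, mem_C.1 hx.2, fun t' ht' e' =>
        h.bal t ht t' ht' x (h3 t ht e) (PS.Loc.cm h1 (mem_C.1 hx.2) e')⟩
  have le : ⨆ t : {t // T t}, φ t ⊓ centralizer {f 4} ≤
      ⨆ b : {a : G // a ∈ JR.four (f 0) (f 1) ⊔ zpowers (f 2) ∧ a ≠ 1}, χ b := iSup_le fun ⟨t, ht⟩ x hx => by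
    obtain ⟨b, hb, b1, e⟩ := hA t ht
    have h2 := PS.Loc.cm' (mem_C.1 hx.2) (h.le t ht x hx.1) e
    exact mem_iSup_of_mem ⟨b, hb, b1⟩ ((hχ b x).2 ⟨mem_C.1 hx.2, h2, fun t' ht' e' =>
      h.bal t ht t' ht' x hx.1 (PS.Loc.cm (mem_C.1 hx.2) h2 e')⟩)
  refine ⟨JR.X.odd_of_le (not_dvd.1 k1) le, fun t ht x hx e => ?_⟩
  obtain ⟨b, hb, b1, e'⟩ := hA t ht
  exact ((hχ b x).1 ((k2 b hb b1).le ⟨le hx, mem_C.2 (PS.Loc.cm' (mem_C.1
    ((iSup_le fun _ => inf_le_right : _ ≤ centralizer {f 4}) hx)) e e')⟩)).2.2 t ht e'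

theorem main5 (h : SgF f T φ) (c : Fr f) : ∃ X : Subgroup G, Odd (Nat.card X) ∧ ∀ t, T t → φ t ≤ X := by
  have k : ∀ a ∈ closure (Set.range f), a ≠ 1 → Odd (Nat.card ↥(⨆ t : {t // T t}, φ t ⊓ centralizer {a})) ∧
      ∀ t, T t → ∀ x ∈ ⨆ t : {t // T t}, φ t ⊓ centralizer {a}, x * t = t * x → x ∈ φ t := fun a ha a1 => by
    rcases c.mem_cases ha with rfl | ⟨i, rfl⟩ | ht
    · exact absurd rfl a1
    · simpa using four5 (h.comp (Equiv.swap 4 i)) (c.comp _)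
    · have ht := (h.hT a).2 ht
      have le : ⨆ t : {t // T t}, φ t ⊓ centralizer {a} ≤ φ a := iSup_le fun t x hx =>
        h.bal t t.2 a ht x hx.1 (mem_C.1 hx.2)
      exact ⟨JR.X.odd_of_le (h.odd a ht) le, fun t ht' x hx => h.bal a ht t ht' x (le hx)⟩
  have lC : ∀ a : G, ⨆ t : {t // T t}, φ t ⊓ centralizer {a} ≤ centralizer {a} := fun a =>
    iSup_le fun _ => inf_le_right
  refine ⟨_, not_dvd.1 (S0217.result (p := 2) (closure (Set.range f)) (fun x hx y hy => c.sg_cA hx hy)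
    (fun x hx => (pow_two x).trans (c.sg_sq hx)) (c.sg_card.ge.trans (card_le_of_le sg_le))
    (fun a => ⨆ t : {t // T t}, φ t ⊓ centralizer {a}) (fun a _ _ => lC a) (fun a ha a1 => not_dvd.2 (k a ha a1).1)
    (fun a ha _ b hb => H42.cj_le_iff.1 ?_) (fun a ha a1 => S0205.result (k a ha a1).1)
    fun a ha a1 b hb b1 x hx => ?_).1, fun t ht x hx => ?_⟩
  · rw [cj, Subgroup.map_iSup]
    exact iSup_mono fun t => H42.cj_le_iff.2 fun x hx =>
      ⟨h.inv t t.2 b hb x hx.1, mem_C.2 (cconj (c.sg_cA hb ha) (mem_C.1 hx.2))⟩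
  · have k2 : ∀ t, T t → x * t = t * x → x ∈ ⨆ t : {t // T t}, φ t ⊓ centralizer {b} := fun t ht e =>
      mem_iSup_of_mem ⟨t, ht⟩ ⟨(k a ha a1).2 t ht x hx.1 e, hx.2⟩
    have xa := mem_C.1 (lC a hx.1)
    rcases c.mem_cases hb with rfl | ⟨j, rfl⟩ | ht
    · exact absurd rfl b1
    · rcases c.mem_cases ha with rfl | ⟨i, rfl⟩ | ht
      · exact absurd rfl a1
      · rcases eq_or_ne i j with rfl | e
        exacts [hx.1, k2 _ ((h.hT _).2 ⟨i, j, e, rfl⟩) (cmul xa.symm (mem_C.1 hx.2).symm).symm]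
      · exact k2 _ ((h.hT _).2 ht) xa
    · exact k2 _ ((h.hT _).2 ht) (mem_C.1 hx.2)
  · obtain ⟨i, j, e, rfl⟩ := (h.hT t).1 ht
    exact mem_iSup_of_mem ⟨_, mul_mem (sg_mA i) (sg_mA j), c.mul_ne_one e⟩
      (mem_iSup_of_mem ⟨_, ht⟩ ⟨hx, mem_C.2 (h.le _ ht x hx)⟩)

theorem Bal.odd (h : Bal f) (c : Fr f) : ∃ X : Subgroup G, Odd (Nat.card X) ∧ ∀ i j, i ≠ j → θ (f i * f j) ≤ X := by
  let O := (pPrimeCore 2 ↥(centralizer (Set.range f))).map (centralizer (Set.range f)).subtype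
  have oC : ∀ {x : G}, x ∈ centralizer (Set.range f) → ∀ i j, x * (f i * f j) = f i * f j * x := fun hx i j =>
    (cmul (hx _ ⟨i, rfl⟩) (hx _ ⟨j, rfl⟩)).symm
  have oN : ∀ i j, O ≤ normalizer (θ (f i * f j) : Set G) := fun i j x hx => nθ (oC (H44.pPrimeCoreOf_le _ hx) i j)
  obtain ⟨X, h1, h2⟩ := main5 (f := f) (T := fun t => ∃ i j, i ≠ j ∧ t = f i * f j) (φ := fun t => θ t ⊔ O)
    ⟨fun _ => Iff.rfl, by
      rintro _ ⟨i, j, -, rfl⟩ x hx
      exact mem_C.1 ((sup_le (fun y hy => mem_C.2 (θ_comm hy)) fun y hy =>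
        mem_C.2 (oC (H44.pPrimeCoreOf_le _ hy) i j) : _ ≤ centralizer {f i * f j}) hx), by
      rintro _ ⟨i, j, -, rfl⟩
      exact JR.X.odd_sup (odd_θ _) (Nat.coprime_two_right.1 (H44.pPrimeCoreOf_coprime _)) (.inr (oN i j)), by
      rintro _ ⟨i, j, -, rfl⟩ b hb
      refine H42.cj_le_iff.1 ?_
      rw [H42.cj_sup]
      exact sup_le_sup (H42.cj_le_iff.2 fun x => conj_θ' (c.sg_cA hb (mul_mem (sg_mA i) (sg_mA j))))
        (H42.cj_le_iff.2 fun x => H42.conj_mem_of_mem_normalizer (H44.le_normalizer_pPrimeCoreOf _ (by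
          rintro _ ⟨m, rfl⟩; exact c.sg_cA (sg_mA m) hb))), by
      rintro _ ⟨i, j, e, rfl⟩ _ ⟨k, l, e', rfl⟩ x hx hc
      obtain ⟨a, ha, o, ho, rfl⟩ := (H49.mem_sup_of_norm_left (oN i j)).1 hx
      refine mul_mem (c.sg_dec (P := θ (f i * f j) ⊓ centralizer {f k * f l}) (odd_inf _ _)
        (fun m => nI (nθ (c.comm2 ..).symm) (nC (c.comm2 ..).symm))
        (fun y hy m => mem_sup_left (h.b1 i j e k l e' y hy.1 (mem_C.1 hy.2) m)) (fun y hy e => mem_sup_right ?_)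
        ⟨ha, (mul_mem_cancel_right (mem_C.2 (oC (H44.pPrimeCoreOf_le _ ho) k l))).1 (mem_C.2 hc)⟩) (mem_sup_right ho)
      exact H44.le_pPrimeCoreOf (N := θ (f i * f j) ⊓ centralizer (Set.range f)) inf_le_right
        (fun g hg => nI (nθ (oC hg i j)) (le_normalizer hg)) (Nat.coprime_two_right.2 (odd_inf _ _))
        ⟨hy.1, by rintro _ ⟨m, rfl⟩; exact (e m).symm⟩⟩ c
  exact ⟨X, h1, fun i j e => le_sup_left.trans (h2 _ ⟨i, j, e, rfl⟩)⟩

/-- the elements normalising `Y` and centralising the frame modulo `Y` -/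
def sgK (c : Fr f) (Y : Subgroup G) : Subgroup G where
  carrier := {x | x ∈ normalizer (Y : Set G) ∧ ∀ m, x * f m * x⁻¹ * f m ∈ Y}
  one_mem' := ⟨one_mem _, fun m => by simp [c.sq]⟩
  mul_mem' := fun {x y} hx hy => ⟨mul_mem hx.1 hy.1, fun m => by
    have := mul_mem (H42.conj_mem_of_mem_normalizer hx.1 (hy.2 m)) (hx.2 m)
    rwa [show x * (y * f m * y⁻¹ * f m) * x⁻¹ * (x * f m * x⁻¹ * f m) =
      x * y * f m * y⁻¹ * (f m * f m) * x⁻¹ * f m by group, c.sq, mul_one, mul_assoc _ y⁻¹, ← mul_inv_rev] at this⟩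
  inv_mem' := fun {x} hx => ⟨inv_mem hx.1, fun m => by
    simpa [mul_assoc, c.inv_eq] using H42.conj_mem_of_mem_normalizer (inv_mem hx.1) (inv_mem (hx.2 m))⟩

theorem Bal.sg_eq (h : Bal f) (c : Fr f) {i j k : Fin 5} (e1 : i ≠ j) (e2 : i ≠ k) (e3 : j ≠ k) :
    closure (sgW f) = closure (sgY (f i * f j) (f j * f k)) ∧
      ∀ l m, l ≠ m → θ (f l * f m) ≤ normalizer (closure (sgY (f i * f j) (f j * f k)) : Set G) := by
  set Y := closure (sgY (f i * f j) (f j * f k))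
  have nf : ∀ m, f m ∈ normalizer (Y : Set G) := fun m => sg_nY (c.comm2 ..).symm (c.comm2 ..).symm
  have YK : Y ≤ sgK c Y := fun y hy => ⟨le_normalizer hy, fun m => by
    simpa [mul_assoc, c.inv_eq] using mul_mem hy (H42.conj_mem_of_mem_normalizer (nf m) (inv_mem hy))⟩
  have c2 : ∀ {y : G}, (∀ m, y * f m = f m * y) → ∀ a b, y * (f a * f b) = f a * f b * y := fun e a b =>
    (cmul (e a).symm (e b).symm).symm
  have mY : ∀ {y : G}, y ∈ θ (f i * f j) → y ∈ θ (f j * f k) → y ∈ θ (f i * f k) → y ∈ Y := fun a b d =>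
    subset_closure (.inr ⟨a, b, by rwa [c.mul_mul]⟩)
  have k1 : ∀ a b, a ≠ b → (f a * f b = f i * f j ∨ f a * f b = f j * f k ∨ f a * f b = f i * f j * (f j * f k)) →
      θ (f a * f b) ≤ sgK c Y := fun a b e he => by
    refine LU.sg_dec [f i * f j, f j * f k] (by simp [c.mul_sq]) (fun u hu v hv => ?_) (odd_θ _) (fun u hu => ?_)
      (fun y hy u hu => YK (subset_closure (.inl ⟨_, y, he, hy, ?_⟩))) fun y hy hu => ?_
    · rcases List.mem_pair.1 hu with rfl | rfl <;> rcases List.mem_pair.1 hv with rfl | rfl <;> exact c.comm22 ..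
    · rcases List.mem_pair.1 hu with rfl | rfl <;> exact nθ (c.comm22 ..)
    · exact (List.mem_pair.1 hu).imp (fun e => by rw [e]) fun e => by rw [e]
    · have a1 := hu (f i * f j) (by simp)
      have a2 := hu (f j * f k) (by simp)
      exact ⟨sg_nY a1 a2, fun m => mY (h.b1 a b e i j e1 y hy a1 m) (h.b1 a b e j k e3 y hy a2 m)
        (h.b1 a b e i k e2 y hy (c.mul_mul i j k ▸ (cmul a1.symm a2.symm).symm) m)⟩
  have k2 : ∀ l m, l ≠ m → θ (f l * f m) ≤ sgK c Y := fun l m e => by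
    have k3 : ∀ a b, a ≠ b → θ (f a * f b) ≤ sgK c Y → θ (f l * f m) ⊓ centralizer {f a * f b} ≤ sgK c Y :=
      fun a b e' he => c.sg_dec (odd_inf _ _) (fun m => nI (nθ (c.comm2 ..).symm) (nC (c.comm2 ..).symm))
        (fun y hy n => he (h.b1 l m e a b e' y hy.1 (mem_C.1 hy.2) n)) fun y _ hu =>
          ⟨sg_nY (c2 hu ..) (c2 hu ..), fun n => by rw [hu, mul_inv_cancel_right, c.sq]; exact one_mem _⟩
    exact JR.X.le_of_four (H8.orderOf_two_of (c.mul_sq i j) (c.mul_ne_one e1))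
      (H8.orderOf_two_of (c.mul_sq j k) (c.mul_ne_one e3)) (c.mul_ne e2) (c.comm22 ..) (odd_θ _) (nθ (c.comm22 ..))
      (nθ (c.comm22 ..)) (k3 i j e1 (k1 i j e1 (.inl rfl))) (k3 j k e3 (k1 j k e3 (.inr (.inl rfl))))
      (c.mul_mul i j k ▸ k3 i k e2 (k1 i k e2 (.inr (.inr (c.mul_mul ..).symm))))
  refine ⟨le_antisymm ((closure_le _).2 ?_) ((closure_le _).2 ?_), fun l m e x hx => (k2 l m e hx).1⟩
  · rintro y (⟨a, b, m, x, e, hx, rfl⟩ | ⟨a, b, d, a1, a2, a3, b1, b2, b3⟩)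
    · exact (k2 a b e hx).2 m
    · exact c.sg_dec (P := θ (f a * f b) ⊓ (θ (f b * f d) ⊓ θ (f a * f d))) (odd_inf _ _)
        (fun m => nI (nθ (c.comm2 ..).symm) (nI (nθ (c.comm2 ..).symm) (nθ (c.comm2 ..).symm)))
        (fun y hy m => (k2 a b a1 hy.1).2 m) (fun y hy hu => mY
          (h.b2 a b d a1 a2 a3 i j e1 y hy.1 hy.2.1 hy.2.2 (c2 hu ..))
          (h.b2 a b d a1 a2 a3 j k e3 y hy.1 hy.2.1 hy.2.2 (c2 hu ..))
          (h.b2 a b d a1 a2 a3 i k e2 y hy.1 hy.2.1 hy.2.2 (c2 hu ..))) ⟨b1, b2, b3⟩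
  · have k3 : ∀ {x : G} {a b : Fin 5}, a ≠ b → x ∈ θ (f a * f b) → ∀ l m,
        x * (f l * f m) * x⁻¹ * (f l * f m) ∈ closure (sgW f) := fun {x a b} e hx l m => by
      have := mul_mem (subset_closure (.inl ⟨a, b, l, x, e, hx, rfl⟩) : _ ∈ closure (sgW f))
        (H42.conj_mem_of_mem_normalizer (sg_nW (g := f l) (σ := 1) fun n => by
          rw [c.comm, mul_inv_cancel_right]; rfl) (subset_closure (.inl ⟨a, b, m, x, e, hx, rfl⟩)))
      rwa [show x * f l * x⁻¹ * f l * (f l * (x * f m * x⁻¹ * f m) * (f l)⁻¹) =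
        x * f l * x⁻¹ * (f l * f l) * x * f m * x⁻¹ * (f m * (f l)⁻¹) by group, c.sq, mul_one, inv_mul_cancel_right,
        c.inv_eq, c.comm m l, mul_assoc x] at this
    rintro y (⟨e, x, he, hx, hy⟩ | ⟨b1, b2, b3⟩)
    · rcases he with rfl | rfl | rfl
      · rcases hy with rfl | rfl <;> exact k3 e1 hx _ _
      · rcases hy with rfl | rfl <;> exact k3 e3 hx _ _
      · rw [c.mul_mul] at hx
        rcases hy with rfl | rfl <;> exact k3 e2 hx _ _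
    · exact subset_closure (.inr ⟨i, j, k, e1, e2, e3, b1, b2, by rwa [c.mul_mul] at b3⟩)

theorem Bal.exists_W (h : Bal f) (c : Fr f) : ∃ W : Subgroup G, Odd (Nat.card W) ∧
    (∀ i j k, i ≠ j → i ≠ k → j ≠ k → centralizer (tri f i j k : Set G) ≤ normalizer (W : Set G)) ∧
    (∀ (g : G) (σ : Equiv.Perm (Fin 5)), (∀ i, g * f i * g⁻¹ = f (σ i)) → g ∈ normalizer (W : Set G)) ∧
    θ (f 0 * f 1) ≤ normalizer (W : Set G) ∧ (∀ x ∈ θ (f 0 * f 1), ∀ i, x * f i * x⁻¹ * f i ∈ W) ∧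
    θ (f 0 * f 1) ⊓ θ (f 1 * f 2) ⊓ θ (f 0 * f 2) ≤ W := by
  obtain ⟨X, h1, h2⟩ := h.odd c
  obtain ⟨e1, e2⟩ := h.sg_eq c (i := 0) (j := 1) (k := 2) (by decide) (by decide) (by decide)
  refine ⟨closure (sgW f), JR.X.odd_of_le h1 ((closure_le _).2 ?_), fun i j k a1 a2 a3 g hg => ?_,
    fun g σ => sg_nW, e1 ▸ e2 0 1 (by decide), fun x hx i => subset_closure (.inl ⟨0, 1, i, x, by decide, hx, rfl⟩),
    fun x hx => subset_closure (.inr ⟨0, 1, 2, by decide, by decide, by decide, hx.1.1, hx.1.2, hx.2⟩)⟩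
  · rintro y (⟨a, b, m, x, e, hx, rfl⟩ | ⟨a, b, d, a1, -, -, b1, -⟩)
    · refine h2 a b e ?_
      simpa [mul_assoc, c.inv_eq] using mul_mem hx (conj_θ' (c.comm2 a b m).symm (inv_mem hx))
    · exact h2 a b a1 b1
  · rw [(h.sg_eq c a1 a2 a3).1]
    exact sg_nY (hg _ (subset_closure (.inl rfl))).symm (hg _ (subset_closure (.inr rfl))).symm

end Cfsg.Agent.LN.S5
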